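import Cfsg.Agent.J1.Check
import Cfsg.Agent.J1Centralizer.Data

/-! Kernel checks for the involution centraliser of `J₁`. -/

set_option autoImplicit false

namespace CfsgLib.J1Centralizer

open CfsgLib.J1

/-- the involution -/
def mT : M7 := hT invIdx

/-- member `k` of the table -/
def el (k : ℕ) : M7 := elTab.get k

/-- entry test -/
def chkEl (k : ℕ) : Bool :=
  wfB (el k) && eqb (mul (el k) mT) (mul mT (el k)) && Nat.beq (elFind.search (mkey (el k))) k &&
  Nat.blt (pairTab.get k).1 266 && Nat.blt (pairTab.get k).2 660 &&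
  eqb (mul (tT (pairTab.get k).1) (hT (pairTab.get k).2)) (el k) &&
  (Nat.blt (nxtTab.get k).1 120 && eqb (mul (el (genIdx 0)) (el k)) (el (nxtTab.get k).1)) &&
  (Nat.blt (nxtTab.get k).2 120 && eqb (mul (el (genIdx 1)) (el k)) (el (nxtTab.get k).2)) &&
  (Nat.beq k 0 || (Nat.blt (parTab.get k).2 k && Nat.blt (parTab.get k).1 2 &&
    eqb (mul (el (genIdx (parTab.get k).1)) (el (parTab.get k).2)) (el k)))

/-- the conjugate of the involution by a coset representative -/
def conjT (i : ℕ) : M7 := mul (mul (uT i) mT) (tT i)

/-- coset test: every commuting element of the coset is listed -/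
def chkCoset (i : ℕ) : Bool :=
  bif eqb (hT (hFind.search (mkey (conjT i)))) (conjT i) then
    allLt 660 (fun l => !eqb (mul (hT l) mT) (mul (conjT i) (hT l)) ||
      (Nat.blt (elFind.search (mkey (mul (tT i) (hT l)))) 120 &&
        eqb (el (elFind.search (mkey (mul (tT i) (hT l))))) (mul (tT i) (hT l))))
  else true

theorem chkEl_all : allLt 120 chkEl = true := by decide +kernel

theorem chkCoset_all : allLt 266 chkCoset = true := by decide +kernel

theorem mT_order : (eqb (mul mT mT) mOne && !eqb mT mOne && Nat.blt invIdx 660 &&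
    eqb (el 0) mOne && Nat.blt (genIdx 0) 120 && Nat.blt (genIdx 1) 120) = true := by
  decide +kernel

end CfsgLib.J1Centralizer
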