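import Cfsg.Agent.J1.Group
import Cfsg.Agent.J1Centralizer.Check

/-! An involution centraliser of `J₁` is the product of a group of order two and `A₅`. -/

set_option autoImplicit false

namespace CfsgLib.J1Centralizer

open CfsgLib.J1 Cfsg.Spor

theorem orderFacts : mul mT mT = mOne ∧ mT ≠ mOne ∧ invIdx < 660 ∧ el 0 = mOne ∧
    ∀ j, genIdx j < 120 := by
  have h := mT_order
  simp only [Bool.and_eq_true, Bool.not_eq_true'] at h
  obtain ⟨⟨⟨⟨⟨h1, h2⟩, h3⟩, h4⟩, h5⟩, h6⟩ := h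
  refine ⟨eq_of_eqb h1, fun e => ?_, Nat.le_of_ble_eq_true h3, eq_of_eqb h4, fun j => ?_⟩
  · rw [e] at h2
    exact absurd h2 (by decide +kernel)
  · rcases j with _ | j
    · exact Nat.le_of_ble_eq_true h5
    · exact Nat.le_of_ble_eq_true h6

theorem elFacts {k : ℕ} (hk : k < 120) :
    WF (el k) ∧ mul (el k) mT = mul mT (el k) ∧ elFind.search (mkey (el k)) = k ∧
    InJ (el k) ∧
    ((nxtTab.get k).1 < 120 ∧ mul (el (genIdx 0)) (el k) = el (nxtTab.get k).1) ∧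
    ((nxtTab.get k).2 < 120 ∧ mul (el (genIdx 1)) (el k) = el (nxtTab.get k).2) ∧
    (k ≠ 0 → (parTab.get k).2 < k ∧ (parTab.get k).1 < 2 ∧
      mul (el (genIdx (parTab.get k).1)) (el (parTab.get k).2) = el k) := by
  have h := allLt_spec chkEl_all k hk
  simp only [chkEl, Bool.and_eq_true, Bool.or_eq_true] at h
  obtain ⟨⟨⟨⟨⟨⟨⟨⟨h1, h2⟩, h3⟩, h4⟩, h5⟩, h6⟩, h7, h8⟩, h9, h10⟩, h11⟩ := h
  refine ⟨wf_of_wfB h1, eq_of_eqb h2, Nat.eq_of_beq_eq_true h3, ?_,
    ⟨Nat.le_of_ble_eq_true h7, eq_of_eqb h8⟩, ⟨Nat.le_of_ble_eq_true h9, eq_of_eqb h10⟩,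
    fun hne => ?_⟩
  · rw [← eq_of_eqb h6]
    exact (inJ_tT _ (Nat.le_of_ble_eq_true h4)).mul (inJ_hT _ (Nat.le_of_ble_eq_true h5))
  · rcases h11 with h11 | ⟨⟨h12, h13⟩, h14⟩
    · exact absurd (Nat.eq_of_beq_eq_true h11) hne
    · exact ⟨Nat.le_of_ble_eq_true h12, Nat.le_of_ble_eq_true h13, eq_of_eqb h14⟩

/-- the involution -/
noncomputable def tEl : J1 := ⟨hG ⟨invIdx, orderFacts.2.2.1⟩, hG_mem _⟩

theorem coe_tEl : ((tEl : GL (Fin 7) (ZMod 11)) : Matrix _ _ _) = dec mT := coe_hG _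

theorem orderOf_tEl : orderOf tEl = 2 := by
  have hw := (inJ_hT invIdx orderFacts.2.2.1).1
  refine orderOf_eq_prime (Subtype.ext (Units.ext ?_)) fun h => orderFacts.2.1 ?_
  · rw [pow_two, Subgroup.coe_mul, Units.val_mul, coe_tEl, show mT = hT invIdx from rfl,
      ← dec_mul hw hw,
      show mul (hT invIdx) (hT invIdx) = mOne from orderFacts.1, dec_mOne]
    rfl
  · refine hT_mul.eq_of_dec hw inJ_one.1 ?_
    rw [dec_mOne]
    change dec mT = 1
    rw [← coe_tEl, h]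
    rfl

/-- the centraliser -/
abbrev Cen : Subgroup J1 := Subgroup.centralizer ({tEl} : Set J1)

/-- member `k` as a group element -/
noncomputable def elG (k : Fin 120) : Cen :=
  ⟨⟨(elFacts k.2).2.2.2.1.2.choose, (elFacts k.2).2.2.2.1.2.choose_spec.1⟩, by
    rw [Subgroup.mem_centralizer_singleton_iff]
    refine Subtype.ext (Units.ext ?_)
    have hw := (inJ_hT invIdx orderFacts.2.2.1).1
    simp only [Subgroup.coe_mul, Units.val_mul, coe_tEl,
      (elFacts k.2).2.2.2.1.2.choose_spec.2]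
    rw [show mT = hT invIdx from rfl, ← dec_mul (elFacts k.2).1 hw, ← dec_mul hw (elFacts k.2).1]
    exact congrArg dec (elFacts k.2).2.1⟩

theorem coe_elG (k : Fin 120) :
    (((elG k : J1) : GL (Fin 7) (ZMod 11)) : Matrix _ _ _) = dec (el k) :=
  (elFacts k.2).2.2.2.1.2.choose_spec.2

theorem elG_injective : Function.Injective elG := by
  intro a b h
  have h' : el a = el b := hT_mul.eq_of_dec (elFacts a.2).1 (elFacts b.2).1 (by
    rw [← coe_elG, ← coe_elG, h])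
  refine Fin.ext ?_
  rw [← (elFacts a.2).2.2.1, h', (elFacts b.2).2.2.1]

theorem elG_surjective : Function.Surjective elG := by
  rintro ⟨⟨g, hg⟩, hcom⟩
  obtain ⟨i, l, rfl⟩ := exists_eq_tG_mul_hG hg
  rw [Subgroup.mem_centralizer_singleton_iff] at hcom
  have hcom' : tG i * hG l * hG ⟨invIdx, orderFacts.2.2.1⟩ =
      hG ⟨invIdx, orderFacts.2.2.1⟩ * (tG i * hG l) := congrArg Subtype.val hcom
  obtain ⟨k, hk⟩ := hG_inv l
  obtain ⟨m₀, hm₀⟩ := hG_mul l ⟨invIdx, orderFacts.2.2.1⟩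
  obtain ⟨m, hm⟩ := hG_mul m₀ k
  obtain ⟨hti, hui, hut, -⟩ := tFacts i.2
  have hwT := (inJ_hT invIdx orderFacts.2.2.1).1
  have hU : ((tG i)⁻¹ : GL (Fin 7) (ZMod 11)) = (dec (uT i) : Matrix _ _ _) := by
    refine (Units.eq_inv_of_mul_eq_one_left ?_).symm
    rw [coe_tG, mul_eq_one_comm, ← dec_mul hui hti, hut, dec_mOne]
  have hkl : (hG l)⁻¹ = hG k := inv_eq_of_mul_eq_one_left hk
  have hconj : (tG i)⁻¹ * hG ⟨invIdx, orderFacts.2.2.1⟩ * tG i = hG m := by
    rw [← hm, ← hm₀, ← hkl]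
    rw [eq_mul_inv_iff_mul_eq, mul_assoc, mul_assoc, ← hcom']
    group
  have hs : conjT i = hT m := by
    refine hT_mul.eq_of_dec (wf_mul _ _) (inJ_hT _ m.2).1 ?_
    rw [conjT, dec_mul (wf_mul _ _) hti, show mT = hT invIdx from rfl, dec_mul hui hwT, ← hU,
      ← coe_tG, show dec (hT invIdx) = _ from (coe_hG ⟨invIdx, orderFacts.2.2.1⟩).symm,
      ← Units.val_mul, ← Units.val_mul, hconj, coe_hG]
  have hfind : hT (hFind.search (mkey (conjT i))) = conjT i := by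
    rw [hs, (hFacts m.2).2.2.2.2.2.1]
  have hc := allLt_spec chkCoset_all i i.2
  rw [chkCoset, hfind] at hc
  have heq : eqb (conjT i) (conjT i) = true := by simp [eqb]
  rw [heq, cond_true] at hc
  have hl := allLt_spec hc l l.2
  have hcomm : mul (hT l) mT = mul (conjT i) (hT l) := by
    refine hT_mul.eq_of_dec (wf_mul _ _) (wf_mul _ _) ?_
    rw [hs, show mT = hT invIdx from rfl, dec_mul (inJ_hT _ l.2).1 hwT,
      dec_mul (inJ_hT _ m.2).1 (inJ_hT _ l.2).1, ← coe_hG, ← coe_hG m,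
      ← coe_hG ⟨invIdx, orderFacts.2.2.1⟩, ← Units.val_mul, ← Units.val_mul, ← hconj]
    congr 1
    rw [mul_assoc ((tG i)⁻¹ * _), mul_assoc, ← hcom']
    group
  rw [hcomm, show eqb (mul (conjT i) (hT l)) (mul (conjT i) (hT l)) = true by simp [eqb],
    Bool.not_true, Bool.false_or, Bool.and_eq_true] at hl
  refine ⟨⟨_, Nat.le_of_ble_eq_true hl.1⟩, Subtype.ext (Subtype.ext (Units.ext ?_))⟩
  rw [coe_elG, eq_of_eqb hl.2, dec_mul hti (inJ_hT _ l.2).1, ← coe_tG, ← coe_hG]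
  rfl

open Equiv in
/-- decoded permutation -/
def decP (c : Fin 5 × Fin 5 × Fin 5 × Fin 5) : Perm (Fin 5) :=
  swap 0 c.1 * swap 1 c.2.1 * swap 2 c.2.2.1 * swap 3 c.2.2.2

theorem decP_even : ∀ k : Fin 120, Equiv.Perm.sign (decP (labTab.get k).2) = 1 := by decide +kernel

/-- the label of a member -/
def lab (k : Fin 120) : Multiplicative (ZMod 2) × alternatingGroup (Fin 5) :=
  (Multiplicative.ofAdd ((labTab.get k).1 : ZMod 2),
    ⟨decP (labTab.get k).2, Equiv.Perm.mem_alternatingGroup.2 (decP_even k)⟩)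

/-- successor -/
def nxt (j k : ℕ) : ℕ := bif Nat.beq j 0 then (nxtTab.get k).1 else (nxtTab.get k).2

theorem lab_nxt : ∀ j : Fin 2, ∀ k : Fin 120,
    Multiplicative.toAdd (lab (Fin.ofNat 120 (nxt j k))).1 =
        Multiplicative.toAdd (lab (Fin.ofNat 120 (genIdx j))).1 + Multiplicative.toAdd (lab k).1 ∧
      (((lab (Fin.ofNat 120 (nxt j k))).2 : Equiv.Perm (Fin 5))) =
        (lab (Fin.ofNat 120 (genIdx j))).2 * (lab k).2 := by decide +kernel

theorem lab_zero : lab 0 = 1 := by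
  refine Prod.ext ?_ (Subtype.ext ?_)
  · show Multiplicative.toAdd (lab 0).1 = (0 : ZMod 2)
    decide +kernel
  · show ((lab 0).2 : Equiv.Perm (Fin 5)) = 1
    decide +kernel

theorem lab_ne_one : ∀ k : Fin 120,
    Multiplicative.toAdd (lab k).1 = 0 → ((lab k).2 : Equiv.Perm (Fin 5)) = 1 → k = 0 := by
  decide +kernel

/-- the equivalence with the table -/
noncomputable def elEquiv : Fin 120 ≃ Cen := Equiv.ofBijective elG ⟨elG_injective, elG_surjective⟩

/-- labels of elements -/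
noncomputable def labHomFun (x : Cen) : Multiplicative (ZMod 2) × alternatingGroup (Fin 5) :=
  lab (elEquiv.symm x)

theorem labHomFun_elG (k : Fin 120) : labHomFun (elG k) = lab k :=
  congrArg lab (elEquiv.symm_apply_apply k)

theorem elG_gen_mul {j : ℕ} (hj : j < 2) (k : Fin 120) :
    elG ⟨genIdx j, orderFacts.2.2.2.2 j⟩ * elG k = elG (Fin.ofNat 120 (nxt j k)) := by
  obtain ⟨-, -, -, -, ⟨h0, e0⟩, ⟨h1, e1⟩, -⟩ := elFacts k.2
  refine Subtype.ext (Subtype.ext (Units.ext ?_))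
  rw [Subgroup.coe_mul, Subgroup.coe_mul, Units.val_mul, coe_elG, coe_elG, coe_elG,
    ← dec_mul (elFacts (orderFacts.2.2.2.2 j)).1 (elFacts k.2).1]
  interval_cases j
  · rw [e0, Fin.val_ofNat, show nxt 0 (k : ℕ) = (nxtTab.get k).1 from rfl, Nat.mod_eq_of_lt h0]
  · rw [e1, Fin.val_ofNat, show nxt 1 (k : ℕ) = (nxtTab.get k).2 from rfl, Nat.mod_eq_of_lt h1]

theorem labHomFun_gen_mul {j : ℕ} (hj : j < 2) (x : Cen) :
    labHomFun (elG ⟨genIdx j, orderFacts.2.2.2.2 j⟩ * x) =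
      lab ⟨genIdx j, orderFacts.2.2.2.2 j⟩ * labHomFun x := by
  obtain ⟨k, rfl⟩ := elG_surjective x
  rw [elG_gen_mul hj, labHomFun_elG, labHomFun_elG]
  have h := lab_nxt ⟨j, hj⟩ k
  have e : (Fin.ofNat 120 (genIdx j) : Fin 120) = ⟨genIdx j, orderFacts.2.2.2.2 j⟩ :=
    Fin.ext (by rw [Fin.val_ofNat, Nat.mod_eq_of_lt (orderFacts.2.2.2.2 j)])
  rw [e] at h
  exact Prod.ext h.1 (Subtype.ext h.2)

theorem elG_parent {k : Fin 120} (hk : k ≠ 0) : ∃ (j : ℕ) (_ : j < 2) (p : Fin 120),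
    p.val < k.val ∧ elG k = elG ⟨genIdx j, orderFacts.2.2.2.2 j⟩ * elG p := by
  obtain ⟨hp, hj, e⟩ := (elFacts k.2).2.2.2.2.2.2 (fun h => hk (Fin.ext h))
  refine ⟨_, hj, ⟨_, hp.trans k.2⟩, hp, Subtype.ext (Subtype.ext (Units.ext ?_))⟩
  rw [Subgroup.coe_mul, Subgroup.coe_mul, Units.val_mul, coe_elG, coe_elG, coe_elG,
    ← dec_mul (elFacts (orderFacts.2.2.2.2 _)).1 (elFacts (hp.trans k.2)).1, e]

theorem elG_zero : elG 0 = 1 := by
  refine Subtype.ext (Subtype.ext (Units.ext ?_))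
  rw [coe_elG, show el ((0 : Fin 120) : ℕ) = mOne from orderFacts.2.2.2.1, dec_mOne]
  rfl

theorem labHomFun_mul : ∀ (n : ℕ) (k : Fin 120), k.val = n → ∀ y : Cen,
    labHomFun (elG k * y) = labHomFun (elG k) * labHomFun y := by
  intro n
  induction n using Nat.strong_induction_on with
  | _ n ih =>
    intro k hkn y
    by_cases hk : k = 0
    · subst hk
      rw [labHomFun_elG, lab_zero, elG_zero, one_mul, one_mul]
    · obtain ⟨j, hj, p, hp, e⟩ := elG_parent hk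
      rw [e, mul_assoc, labHomFun_gen_mul hj, labHomFun_gen_mul hj, ih p (hkn ▸ hp) p rfl,
        mul_assoc]

theorem centralizer_equiv : Nonempty (Cen ≃* Multiplicative (ZMod 2) × alternatingGroup (Fin 5)) := by
  let f : Cen →* Multiplicative (ZMod 2) × alternatingGroup (Fin 5) :=
    MonoidHom.mk' labHomFun fun x y => by
      obtain ⟨k, rfl⟩ := elG_surjective x
      exact labHomFun_mul _ k rfl y
  have hinj : Function.Injective f := by
    rw [injective_iff_map_eq_one]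
    intro x hx
    obtain ⟨k, rfl⟩ := elG_surjective x
    change labHomFun (elG k) = 1 at hx
    rw [labHomFun_elG] at hx
    rw [lab_ne_one k (congrArg (fun p => Multiplicative.toAdd p.1) hx)
      (congrArg (fun p => (p.2 : Equiv.Perm (Fin 5))) hx), elG_zero]
  refine ⟨MulEquiv.ofBijective f ⟨hinj, ?_⟩⟩
  refine ((Nat.bijective_iff_injective_and_card f).2 ⟨hinj, ?_⟩).2
  rw [← Nat.card_congr elEquiv, Nat.card_prod, Nat.card_congr Multiplicative.toAdd, Nat.card_zmod,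
    Nat.card_eq_fintype_card, Fintype.card_fin]
  haveI : Nontrivial (Fin 5) := inferInstance
  rw [nat_card_alternatingGroup, Nat.card_fin]
  decide

end CfsgLib.J1Centralizer
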